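import Groth.Agent.Gaga.H976.Theta
import Groth.Agent.Gaga.H938.KillsProp
import Groth.Agent.Gaga.H625.Chow
import Groth.Agent.PerfA.CohZero

/-!
# GAGA, essential surjectivity: reduction of proper schemes to projective space

`alg_of_projSpace`: if every finitely presented analytic sheaf on every projective space is algebraic
then the same holds on every reduced proper `X` (given the gluing statement `hFIN`, the
algebraicity `hPA` of direct images of algebraic sheaves).
-/

set_option autoImplicit false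

open CategoryTheory AlgebraicGeometry TopologicalSpace Opposite

noncomputable section

namespace Groth.Agent.Gaga.H976.Main

open Groth.Agent.Gaga.H975.ModSec Groth.Agent.Gaga.H986.Stalk Groth.Agent.Gaga.H986.Pull
open Groth.Agent.Gaga.H976.Defs Groth.Agent.Gaga.H976.Defs2 Groth.Agent.Gaga.H976.Quot
open Groth.Agent.Gaga.H976.IdealAt Groth.Agent.Gaga.H976.Theta

/-- A sheaf with zero stalks is algebraic. -/
theorem alg_of_subsingleton {X : Scheme.{0}} [X.Over An.SC] (N : An.AnMod X)
    (h : ∀ x : An.Pts X, Subsingleton (St (R := An.hol X) N x)) : Alg N := by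
  have h0 : Limits.IsZero N := (isZero_iff (R := An.hol X) N).2 h
  obtain ⟨Z, hZ⟩ := Limits.HasZeroObject.zero (C := X.Modules)
  have hZ' : Limits.IsZero ((An.analytify X).obj Z) := by
    have h1 : Limits.PreservesColimitsOfSize.{0, 0} (An.analytify X) :=
      (An.analytifyAdj X).leftAdjoint_preservesColimits
    exact (Limits.IsInitial.isInitialObj (An.analytify X) Z hZ.isInitial).isZero
  exact ⟨Z, Groth.Agent.PerfA.CohZero.isCoh_of_isZero hZ, ⟨hZ'.iso h0⟩⟩

theorem alg_of_projSpace (X : Scheme.{0}) [X.Over An.SC] [IsReduced X] [IsProper (X ↘ An.SC)]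
    (hP : ∀ (m : ℕ) (N : An.AnMod (CohB1.ProjSpace m ℂ)), N.IsFinitePresentation → Alg N)
    (hPA : ∀ (E : Scheme.{0}) [E.Over An.SC] [LocallyOfFiniteType (E ↘ An.SC)] [IsReduced E]
      (p : E ⟶ X) [p.IsOver An.SC] [IsProper p] (N : An.AnMod E), Alg N →
        Alg ((An.anPushMap p).obj N))
    (hOka : ∀ (M N : An.AnMod X) (f : M ⟶ N), M.IsFinitePresentation → N.IsFinitePresentation →
      (Limits.kernel f).IsFinitePresentation)
    (hFIN : ∀ (J : X.IdealSheafData)
      (_ : ∀ N : An.AnMod X, N.IsFinitePresentation → SuppIn (J.support : Set X) N → Alg N)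
      {N P : An.AnMod X} (_ : N.IsFinitePresentation) (_ : Alg P) (θ : N ⟶ P)
      (_ : ∀ x : An.Pts X, x.pt ∉ J.support → Function.Bijective (stMap (R := An.hol X) θ x)), Alg N)
    (N : An.AnMod X) (hN : N.IsFinitePresentation) : Alg N := by
  have hXn : IsLocallyNoetherian X := LocallyOfFiniteType.isLocallyNoetherian (X ↘ An.SC)
  have hNoeth : IsNoetherian X := by
    have : CompactSpace X := QuasiCompact.compactSpace_of_compactSpace (X ↘ An.SC)
    exact {}
  suffices claim : ∀ (Z : Closeds X) (N : An.AnMod X), N.IsFinitePresentation →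
      SuppIn (Z : Set X) N → Alg N from
    claim ⊤ N hN (fun x hx => absurd (show x.pt ∈ ((⊤ : Closeds X) : Set X) from trivial) hx)
  intro Z
  induction Z using WellFoundedLT.induction with
  | ind Z ih =>
    intro N hN hZ
    have hsup : ((Scheme.IdealSheafData.vanishingIdeal Z).support : Set X) = Z := by
      simp
    obtain ⟨k, hk⟩ := Groth.Agent.Gaga.H938.KillsProp.exists_kills hOka N hN
      (Scheme.IdealSheafData.vanishingIdeal Z) (by rw [hsup]; exact hZ)
    by_cases hI : (Scheme.IdealSheafData.vanishingIdeal Z) ^ k = ⊤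
    · refine alg_of_subsingleton N fun x => ⟨fun s t => ?_⟩
      rw [hI] at hk
      have h1 : (1 : StO (An.hol X) x) ∈ idealAt ⊤ x := by
        rw [idealAt_eq_top ⊤ x (by simp only [Scheme.IdealSheafData.support_top]; exact id)]; trivial
      have h2 := hk x 1 h1
      rw [← one_smul (StO (An.hol X) x) s, ← one_smul (StO (An.hol X) x) t, h2, h2]
    obtain ⟨m, E, _, _, p, _, _, q, _, _, I', U, ⟨x₀, hx₀U, hx₀⟩, h1, h2, h3, h4, h5⟩ :=
      Groth.Agent.Gaga.H625.Chow.exists_chow X _ hI
    have hE : LocallyOfFiniteType (E ↘ An.SC) := by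
      rw [← comp_over p]
      infer_instance
    have hPp : IsProper (CohB1.ProjSpace m ℂ ↘ An.SC) :=
      Groth.Agent.Dix.ProjProper.isProper_toSpec m ℂ
    have hs : Smooth (CohB1.ProjSpace m ℂ ↘ An.SC) :=
      (Groth.Agent.Sga5.ProjSmooth.smooth_toSpec (R := ℂ) m).smooth
    have hPr : IsReduced (CohB1.ProjSpace m ℂ) :=
      Groth.Agent.Etcore.SmoothRed.isReduced_of_smooth (CohB1.ProjSpace m ℂ ↘ An.SC)
    obtain ⟨P, hPalg, θ, hθ⟩ := exists_theta (hP m) p (fun N' hN' => hPA E p N' hN') q _ I' U
      h1 h2 h3 h4 h5 N hN hk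
    have hIZ : ((((Scheme.IdealSheafData.vanishingIdeal Z) ^ k).support : Closeds X) : Set X) ⊆ Z := by
      rcases Nat.eq_zero_or_pos k with rfl | hkpos
      · exact absurd (by simp) hI
      · rw [Scheme.IdealSheafData.support_pow _ _ hkpos.ne', hsup]
    let Z' : Closeds X := ⟨(((Scheme.IdealSheafData.vanishingIdeal Z) ^ k).support : Set X) ∩ (U : Set X)ᶜ,
      (Closeds.isClosed _).inter U.isOpen.isClosed_compl⟩
    have hZ' : Z' < Z := by
      refine lt_of_le_of_ne (fun x hx => hIZ hx.1) ?_
      intro h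
      have : x₀ ∈ Z' := by rw [h]; exact hIZ hx₀
      exact this.2 hx₀U
    have hsup' : ((Scheme.IdealSheafData.vanishingIdeal Z').support : Set X) = Z' := by
      simp
    refine hFIN (Scheme.IdealSheafData.vanishingIdeal Z')
      (fun N hN h => ih Z' hZ' N hN (by rw [hsup'] at h; exact h)) hN hPalg θ (fun x hx => hθ x ?_)
    have hx' : x.pt ∉ ((Scheme.IdealSheafData.vanishingIdeal Z').support : Set X) := hx
    rw [hsup'] at hx'
    exact fun h => hx' ⟨h.1, h.2⟩

end Groth.Agent.Gaga.H976.Main
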